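import Groth.Agent.Surf.K379.Fib
import Groth.Agent.Ega4dA.CurveLine
import Groth.Agent.Ega4dA.Dim1Top
import Groth.Agent.Deform.K185.CurveTop
import Groth.Agent.Ega1.ReducedSub
import Groth.Agent.S1589
import Groth.Agent.VarietyB.DimTop
import Groth.Agent.Smoothlim.SmoothLocusBC
import Mathlib.AlgebraicGeometry.AlgClosed.Basic
import Mathlib.AlgebraicGeometry.Noetherian
import Mathlib.FieldTheory.Perfect
import Mathlib.Data.Set.Card.Arithmetic

/-!
# Finiteness of the critical points and of the vertical curves of a semistable fibration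
-/

set_option autoImplicit false
set_option linter.unusedSectionVars false
universe u
open CategoryTheory CategoryTheory.Limits AlgebraicGeometry TopologicalSpace

namespace K627.SurfFin

open K379.Fib Groth.Agent

/-! ### Fibres -/

section fibre

variable {X C : Scheme.{u}} (f : X ⟶ C) (s : C)

theorem isPullback_fiber : IsPullback (f.fiberι s) (f.fiberToSpecResidueField s) f (C.fromSpecResidueField s) :=
  IsPullback.of_hasPullback _ _

theorem lfp_fiber [LocallyOfFinitePresentation f] : LocallyOfFinitePresentation (f.fiberToSpecResidueField s) :=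
  MorphismProperty.of_isPullback (isPullback_fiber f s) ‹_›

theorem exists_fiberι {x : X} (hx : f x = s) : ∃ y : f.fiber s, f.fiberι s y = x := by
  subst hx
  exact ⟨f.asFiber x, f.fiberι_asFiber x⟩

theorem map_fiberι (y : f.fiber s) : f (f.fiberι s y) = s := by
  have : f.fiberι s y ∈ Set.range (f.fiberι s) := ⟨y, rfl⟩
  rw [Scheme.Hom.range_fiberι] at this
  exact this

theorem fiberι_injective : Function.Injective (f.fiberι s) := (f.fiberι s).isEmbedding.injective

theorem mem_smoothLocus_iff [Flat f] [LocallyOfFinitePresentation f] [LocallyOfFinitePresentation (f.fiberToSpecResidueField s)]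
    (y : f.fiber s) : y ∈ (f.fiberToSpecResidueField s).smoothLocus ↔ f.fiberι s y ∈ f.smoothLocus :=
  Smoothlim.SmoothLocusBC.mem_smoothLocus_iff_of_isPullback (isPullback_fiber f s) y
    (Or.inl (Flat.stalkMap f _))

theorem smooth_fiber_iff [Flat f] [LocallyOfFinitePresentation f] :
    Smooth (f.fiberToSpecResidueField s) ↔ ∀ x : X, f x = s → x ∈ f.smoothLocus := by
  have := lfp_fiber f s
  rw [← Scheme.Hom.smoothLocus_eq_top_iff, ← top_le_iff]
  constructor
  · intro h x hx
    obtain ⟨y, rfl⟩ := exists_fiberι f s hx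
    exact (mem_smoothLocus_iff f s y).1 (h trivial)
  · intro h y _
    exact (mem_smoothLocus_iff f s y).2 (h _ (map_fiberι f s y))

end fibre

/-! ### The hypotheses -/

section fib

variable {k : Type u} [Field k] [IsAlgClosed k] {X C : Scheme.{u}} [X.Over (Spec (CommRingCat.of k))]
  [C.Over (Spec (CommRingCat.of k))] {f : X ⟶ C} {g : ℕ}

theorem isNoetherian_X (h : IsFib k f g) : IsNoetherian X := by
  have := h.pX
  have h1 : IsLocallyNoetherian X := LocallyOfFiniteType.isLocallyNoetherian (X ↘ Spec (CommRingCat.of k))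
  have h2 : CompactSpace X := QuasiCompact.compactSpace_of_compactSpace (X ↘ Spec (CommRingCat.of k))
  exact {}

theorem isNoetherian_C (h : IsFib k f g) : IsNoetherian C := by
  have := h.pC
  have h1 : IsLocallyNoetherian C := LocallyOfFiniteType.isLocallyNoetherian (C ↘ Spec (CommRingCat.of k))
  have h2 : CompactSpace C := QuasiCompact.compactSpace_of_compactSpace (C ↘ Spec (CommRingCat.of k))
  exact {}

theorem isProper_f (h : IsFib k f g) : IsProper f := by
  have := h.pX
  have := h.pC
  have h1 : IsProper (f ≫ (C ↘ Spec (CommRingCat.of k))) := by rw [h.ovr]; infer_instance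
  exact IsProper.of_comp f (C ↘ Spec (CommRingCat.of k))

theorem isAlgClosed_residue (h : IsFib k f g) {s : C} (hs : IsClosed ({s} : Set C)) : IsAlgClosed (C.residueField s) := by
  have := h.pC
  exact IsAlgClosed.of_ringEquiv k _ (residueFieldIsoBase (C ↘ Spec (CommRingCat.of k)) s hs).commRingCatIsoToRingEquiv.symm

theorem isNoetherian_fiber (h : IsFib k f g) (s : C) : IsNoetherian (f.fiber s) := by
  have := isProper_f h
  have h0 : LocallyOfFiniteType (f.fiberToSpecResidueField s) :=
    MorphismProperty.of_isPullback (isPullback_fiber f s) inferInstance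
  have h1 : IsLocallyNoetherian (f.fiber s) := LocallyOfFiniteType.isLocallyNoetherian (f.fiberToSpecResidueField s)
  exact {}

theorem dim_fiber (h : IsFib k f g) (s : C) : topologicalKrullDim ↥(f.fiber s) ≤ 1 := by
  rw [VarietyB.DimTop.topologicalKrullDim_eq_iSup_irreducibleComponents]
  exact iSup_le fun Z => ((h.nod.2.2 s).1 Z.1 Z.2).le

theorem isReduced_fiber (h : IsFib k f g) (s : C) : IsReduced (f.fiber s) := by
  have := isProper_f h
  let _ : (f.fiber s).Over (Spec (CommRingCat.of (C.residueField s))) := ⟨f.fiberToSpecResidueField s⟩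
  have h0 : LocallyOfFiniteType ((f.fiber s) ↘ (Spec (CommRingCat.of (C.residueField s)))) :=
    MorphismProperty.of_isPullback (isPullback_fiber f s) inferInstance
  have h1 := (S1589.result (C.residueField s) (f.fiber s) (h.nod.2.2 s).1 (h.nod.2.2 s).2).2
  exact GeometricallyReduced.isReduced_of_flat_of_isLocallyNoetherian ((f.fiber s) ↘ (Spec (CommRingCat.of (C.residueField s))))

theorem dense_smooth_fiber [LocallyOfFinitePresentation f] (h : IsFib k f g) {s : C} (hs : IsClosed ({s} : Set C))
    [LocallyOfFinitePresentation (f.fiberToSpecResidueField s)] :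
    Dense ((f.fiberToSpecResidueField s).smoothLocus : Set (f.fiber s)) := by
  have := isReduced_fiber h s
  have := isAlgClosed_residue h hs
  exact @Scheme.Hom.dense_smoothLocus_of_perfectField (f.fiber s) (C.residueField s) _ _ _ (f.fiberToSpecResidueField s) _

theorem isClosed_map_fiberι (h : IsFib k f g) {s : C} (hs : IsClosed ({s} : Set C)) {y : f.fiber s}
    (hy : IsClosed ({y} : Set (f.fiber s))) : IsClosed ({f.fiberι s y} : Set X) := by
  have hfc : IsClosed (f ⁻¹' {s}) := hs.preimage f.continuous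
  have he : Topology.IsClosedEmbedding (f.fiberι s) :=
    ⟨(f.fiberι s).isEmbedding, by rw [Scheme.Hom.range_fiberι]; exact hfc⟩
  have := he.isClosedMap _ hy
  rwa [Set.image_singleton] at this

/-- Finitely many points of a fibre over a closed point are singular. -/
theorem finite_sg [LocallyOfFinitePresentation f] (h : IsFib k f g) {s : C} (hs : IsClosed ({s} : Set C)) :
    (sg f s).Finite ∧ ∀ x ∈ sg f s, IsClosed ({x} : Set X) := by
  have := h.nod.1
  have := lfp_fiber f s
  have := isNoetherian_fiber h s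
  have hd := dense_smooth_fiber h hs
  have hfin := K185.CurveTop.finite_compl (dim_fiber h s) _ hd
  refine ⟨(hfin.image (f.fiberι s)).subset ?_, ?_⟩
  · rintro x ⟨hx, hx'⟩
    obtain ⟨y, rfl⟩ := exists_fiberι f s hx
    exact ⟨y, fun hy => hx' ((mem_smoothLocus_iff f s y).1 hy), rfl⟩
  · rintro x ⟨hx, hx'⟩
    obtain ⟨y, rfl⟩ := exists_fiberι f s hx
    exact isClosed_map_fiberι h hs (K185.CurveTop.isClosed_singleton (dim_fiber h s) _ hd y
      fun hy => hx' ((mem_smoothLocus_iff f s y).1 hy))

/-- The critical values form a finite set of closed points. -/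
theorem critical [LocallyOfFinitePresentation f] (h : IsFib k f g) :
    (f '' ((f.smoothLocus : Set X)ᶜ)).Finite ∧ ∀ c ∈ f '' ((f.smoothLocus : Set X)ᶜ), IsClosed ({c} : Set C) := by
  have := isProper_f h
  have := h.nod.1
  have := isNoetherian_C h
  have := h.iC
  obtain ⟨q₀, hq₀, hsm, -⟩ := h.fib
  have hcl : IsClosed (f '' ((f.smoothLocus : Set X)ᶜ)) :=
    f.isClosedMap _ f.smoothLocus.2.isClosed_compl
  have hq : q₀ ∉ f '' ((f.smoothLocus : Set X)ᶜ) := by
    rintro ⟨x, hx, hxq⟩
    exact hx ((smooth_fiber_iff f q₀).1 hsm x hxq)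
  let U : C.Opens := ⟨(f '' ((f.smoothLocus : Set X)ᶜ))ᶜ, hcl.isOpen_compl⟩
  have hU : (U : Set C) = (f '' ((f.smoothLocus : Set X)ᶜ))ᶜ := rfl
  have hgen : ∀ y ∉ U, ∃ η : C, η ⤳ y ∧ η ≠ y := by
    intro y hy
    refine ⟨genericPoint C, genericPoint_specializes y, ?_⟩
    rintro rfl
    exact hy ((genericPoint_specializes q₀).mem_open U.2 hq)
  have h1 := Ega4dA.CurveLine.finite_compl h.dC.le hgen
  rw [hU, compl_compl] at h1
  refine ⟨h1, fun c hc => Ega4dA.CurveLine.isClosed_compl_point h.dC.le hgen ?_⟩
  exact fun hcU => hcU hc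

/-- **Finiteness of the set of critical points.** -/
theorem finite_sing [LocallyOfFinitePresentation f] (h : IsFib k f g) : ((f.smoothLocus : Set X)ᶜ).Finite := by
  obtain ⟨h1, h2⟩ := critical h
  refine (h1.biUnion fun c hc => (finite_sg h (h2 c hc)).1).subset ?_
  intro x hx
  exact Set.mem_biUnion (Set.mem_image_of_mem f hx) ⟨rfl, hx⟩

theorem card_sing [LocallyOfFinitePresentation f] (h : IsFib k f g) :
    {c : C | IsClosed ({c} : Set C) ∧ ¬ Smooth (f.fiberToSpecResidueField c)}.Finite ∧
    ∀ S : Finset C, (∀ c, c ∈ S ↔ IsClosed ({c} : Set C) ∧ ¬ Smooth (f.fiberToSpecResidueField c)) →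
      Nat.card ↥((f.smoothLocus : Set X)ᶜ) = ∑ s ∈ S, (sg f s).ncard := by
  classical
  have hfl := h.nod.1
  obtain ⟨h1, h2⟩ := critical h
  have hmem : ∀ c : C, ¬ Smooth (f.fiberToSpecResidueField c) ↔ c ∈ f '' ((f.smoothLocus : Set X)ᶜ) := by
    intro c
    rw [smooth_fiber_iff]
    push Not
    constructor
    · rintro ⟨x, hx, hx'⟩
      exact ⟨x, hx', hx⟩
    · rintro ⟨x, hx', hx⟩
      exact ⟨x, hx, hx'⟩
  refine ⟨h1.subset fun c hc => (hmem c).1 hc.2, fun S hS => ?_⟩
  have hS' : ∀ c, c ∈ S ↔ c ∈ f '' ((f.smoothLocus : Set X)ᶜ) := fun c => by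
    rw [hS, hmem]
    exact ⟨fun h => h.2, fun h => ⟨h2 c h, h⟩⟩
  have hfs : ∀ s ∈ S, (sg f s).Finite := fun s hs => (finite_sg h ((hS s).1 hs).1).1
  have hU : ((f.smoothLocus : Set X)ᶜ) = ⋃ s ∈ S, sg f s := by
    ext x
    simp only [Set.mem_iUnion]
    constructor
    · intro hx
      exact ⟨f x, (hS' _).2 (Set.mem_image_of_mem f hx), rfl, hx⟩
    · rintro ⟨s, -, -, hx⟩
      exact hx
  have hcard : ((f.smoothLocus : Set X)ᶜ).ncard = ∑ s ∈ S, (sg f s).ncard := by
    rw [hU]
    have hdisj : (S : Set C).PairwiseDisjoint (sg f) := by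
      intro a _ b _ hab
      rw [Function.onFun, Set.disjoint_left]
      rintro x ⟨ha, -⟩ ⟨hb, -⟩
      exact hab (ha.symm.trans hb)
    have h3 := Set.Finite.ncard_biUnion (t := (S : Set C)) S.finite_toSet (s := sg f) (fun s hs => hfs s (Finset.mem_coe.1 hs)) hdisj
    rw [finsum_mem_coe_finset] at h3
    exact h3
  rw [Nat.card_coe_set_eq]
  exact hcard

/-! ### Vertical curves -/

theorem eq_vanishingIdeal {D : X.IdealSheafData} (hD : IsIntegral D.subscheme) :
    D = Scheme.IdealSheafData.vanishingIdeal D.support := by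
  have h1 : D.subschemeι.ker.radical = D.subschemeι.ker := Ega1.ReducedSub.radical_ker_eq D.subschemeι
  rw [Scheme.IdealSheafData.ker_subschemeι] at h1
  rw [Scheme.IdealSheafData.vanishingIdeal_support, h1]

theorem isIrreducible_support {D : X.IdealSheafData} (hD : IsIntegral D.subscheme) :
    IsIrreducible (D.support : Set X) := by
  rw [← Scheme.IdealSheafData.range_subschemeι, ← Set.image_univ]
  exact (IrreducibleSpace.isIrreducible_univ (D.subscheme : Type u)).image _ D.subschemeι.continuous.continuousOn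

theorem isIntegral_vanishingIdeal (Z : Closeds X) (h : IsIrreducible (Z : Set X)) :
    IsIntegral (Scheme.IdealSheafData.vanishingIdeal Z).subscheme := by
  have h0 := Ega1.ReducedSub.isReduced_subscheme_vanishingIdeal Z
  have h1 : IsIrreducible (Set.range (Scheme.IdealSheafData.vanishingIdeal Z).subschemeι) := by
    rw [Scheme.IdealSheafData.range_subschemeι, Scheme.IdealSheafData.coe_support_vanishingIdeal]; exact h
  have h2 := Subtype.irreducibleSpace h1
  let e := (Scheme.IdealSheafData.vanishingIdeal Z).subschemeι.isEmbedding.toHomeomorph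
  have : Nonempty (Scheme.IdealSheafData.vanishingIdeal Z).subscheme := ⟨e.symm ⟨_, h1.nonempty.some_mem⟩⟩
  have h3 : IrreducibleSpace (Scheme.IdealSheafData.vanishingIdeal Z).subscheme := e.isOpenEmbedding.irreducibleSpace
  exact isIntegral_of_irreducibleSpace_of_isReduced _

theorem dim_image {α β : Type*} [TopologicalSpace α] [TopologicalSpace β] {e : α → β} (he : Topology.IsEmbedding e)
    (s : Set α) : topologicalKrullDim ↥(e '' s) = topologicalKrullDim ↥s :=
  ((he.homeomorphImage s).isHomeomorph.topologicalKrullDim_eq _).symm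

theorem isIrreducible_of_image {α β : Type*} [TopologicalSpace α] [TopologicalSpace β] {e : α → β}
    (he : Topology.IsInducing e) {s : Set α} (h : IsIrreducible (e '' s)) : IsIrreducible s := by
  refine ⟨Set.image_nonempty.1 h.nonempty, ?_⟩
  intro u v hu hv h1 h2
  obtain ⟨U, hU, rfl⟩ := he.isOpen_iff.1 hu
  obtain ⟨V, hV, rfl⟩ := he.isOpen_iff.1 hv
  obtain ⟨x, hx, hxU⟩ := h1
  obtain ⟨y, hy, hyV⟩ := h2
  obtain ⟨_, ⟨z, hz, rfl⟩, hzU, hzV⟩ := h.2 U V hU hV ⟨e x, ⟨x, hx, rfl⟩, hxU⟩ ⟨e y, ⟨y, hy, rfl⟩, hyV⟩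
  exact ⟨z, hz, hzU, hzV⟩

theorem isClosedEmbedding_fiberι {s : C} (hs : IsClosed ({s} : Set C)) : Topology.IsClosedEmbedding (f.fiberι s) :=
  ⟨(f.fiberι s).isEmbedding, by rw [Scheme.Hom.range_fiberι]; exact hs.preimage f.continuous⟩

/-- The integral curves in a fibre are the irreducible components of the fibre. -/
theorem preimage_mem_irreducibleComponents (h : IsFib k f g) {s : C} {D : X.IdealSheafData}
    (hD : D ∈ vc f s) : f.fiberι s ⁻¹' (D.support : Set X) ∈ irreducibleComponents (f.fiber s : Type u) := by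
  obtain ⟨hDi, hD1, hDs⟩ := hD
  have he := (f.fiberι s).isEmbedding
  have himg : f.fiberι s '' (f.fiberι s ⁻¹' (D.support : Set X)) = D.support := by
    rw [Set.image_preimage_eq_of_subset]
    rw [Scheme.Hom.range_fiberι]
    exact hDs
  have hirr : IsIrreducible (f.fiberι s ⁻¹' (D.support : Set X)) := by
    have h1 := isIrreducible_support hDi
    rw [← himg] at h1
    exact isIrreducible_of_image he.isInducing h1
  have hcl : IsClosed (f.fiberι s ⁻¹' (D.support : Set X)) := D.support.2.preimage (f.fiberι s).continuous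
  have hdim : topologicalKrullDim ↥(f.fiberι s ⁻¹' (D.support : Set X)) = 1 := by
    rw [← dim_image he, himg, hD1]
  obtain ⟨ζ, hζ⟩ := QuasiSober.sober hirr hcl
  obtain ⟨Z, hZ, hle⟩ := exists_mem_irreducibleComponents_subset_of_isIrreducible _ hirr
  obtain ⟨η, hη⟩ := QuasiSober.sober hZ.1 (isClosed_of_mem_irreducibleComponents _ hZ)
  have hηζ : η ⤳ ζ := hη.specializes (hle hζ.mem)
  by_cases hne : η = ζ
  · have : f.fiberι s ⁻¹' (D.support : Set X) = Z := by
      rw [← hζ.def, ← hη.def, hne]
    rw [this]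
    exact hZ
  · exfalso
    have hζc := Ega4dA.Dim1Top.isClosed_of_specializes (dim_fiber h s) hηζ hne
    have h3 : f.fiberι s ⁻¹' (D.support : Set X) = {ζ} := by rw [← hζ.def, hζc.closure_eq]
    rw [h3] at hdim
    have h4 : topologicalKrullDim ↥({ζ} : Set (f.fiber s)) ≤ 0 := topologicalKrullDim_zero_of_discreteTopology _
    rw [hdim] at h4
    exact absurd h4 (by decide)

theorem vc_finite (h : IsFib k f g) (s : C) (hs : IsClosed ({s} : Set C)) : (vc f s).Finite ∧ (vc f s).Nonempty := by
  have := isNoetherian_fiber h s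
  have hfin : (irreducibleComponents (f.fiber s : Type u)).Finite := NoetherianSpace.finite_irreducibleComponents
  have he := isClosedEmbedding_fiberι (f := f) hs
  constructor
  · refine Set.Finite.of_injOn (f := fun D : X.IdealSheafData => f.fiberι s ⁻¹' (D.support : Set X))
      (t := irreducibleComponents (f.fiber s : Type u)) (fun D hD => preimage_mem_irreducibleComponents h hD) ?_ hfin
    intro D hD E hE hDE
    have himg : ∀ {D : X.IdealSheafData}, D ∈ vc f s →
        f.fiberι s '' (f.fiberι s ⁻¹' (D.support : Set X)) = D.support := fun {D} hD => by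
      rw [Set.image_preimage_eq_of_subset]
      rw [Scheme.Hom.range_fiberι]
      exact hD.2.2
    have h1 : (D.support : Set X) = E.support := by
      rw [← himg hD, ← himg hE]
      exact congrArg (fun t => f.fiberι s '' t) hDE
    rw [eq_vanishingIdeal hD.1, eq_vanishingIdeal hE.1, SetLike.coe_injective h1]
  · obtain ⟨x, hx⟩ := h.sur.surj s
    obtain ⟨y, rfl⟩ := exists_fiberι f s hx
    have hZ := irreducibleComponent_mem_irreducibleComponents y
    have hcl : IsClosed (f.fiberι s '' irreducibleComponent y) := he.isClosedMap _ isClosed_irreducibleComponent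
    refine ⟨Scheme.IdealSheafData.vanishingIdeal ⟨f.fiberι s '' irreducibleComponent y, hcl⟩, ?_, ?_, ?_⟩
    · exact isIntegral_vanishingIdeal _ (isIrreducible_irreducibleComponent.image _ he.continuous.continuousOn)
    · rw [Scheme.IdealSheafData.coe_support_vanishingIdeal]
      exact (dim_image he.isEmbedding _).trans ((h.nod.2.2 s).1 _ hZ)
    · rw [Scheme.IdealSheafData.coe_support_vanishingIdeal]
      rintro _ ⟨z, -, rfl⟩
      exact map_fiberι f s z

end fib

end K627.SurfFin
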